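import Cfsg.Agent.H704.S8.Defs

/-!
# A Frobenius subgroup from the local data (helper915, S4908)
-/

set_option autoImplicit false
set_option linter.unusedSectionVars false

universe u v

namespace Cfsg.Agent.H915.S8

open Subgroup Cfsg Cfsg.Agent.H704.S8

variable {G : Type u} [Group G]

/-- `FrobRow` from the bound for the subgroups of order divisible by `p` or `q` -/
theorem frobRow_of [Finite G] {c p q : ℕ} (hp : p.Prime) (hq : q.Prime) (hpn : p ∣ Nat.card G)
    (hN : ∀ R : Subgroup G, Nat.card R = p → q ∣ Nat.card (normalizer (R : Set G)) ∧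
      ¬ q ∣ Nat.card (centralizer (R : Set G)))
    (hT : ∀ T : Subgroup G, T ≠ ⊤ → (p ∣ Nat.card T ∨ q ∣ Nat.card T) →
      c * (Nat.card T * Nat.card (ConjClasses T)) ≤ Nat.card G) (D : Set ℕ) : FrobRow c D G := by
  have : Fact p.Prime := ⟨hp⟩
  have : Fact q.Prime := ⟨hq⟩
  obtain ⟨y, hy⟩ := exists_prime_orderOf_dvd_card' (G := G) p hpn
  have hP : Nat.card (zpowers y : Subgroup G) = p := by rw [Nat.card_zpowers, hy]
  obtain ⟨hNq, hCq⟩ := hN _ hP
  obtain ⟨w, hw⟩ := exists_prime_orderOf_dvd_card' (G := normalizer ((zpowers y : Subgroup G) : Set G)) q hNq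
  have hw' : orderOf (w : G) = q := by rw [Subgroup.orderOf_coe, hw]
  have hQ : Nat.card (zpowers (w : G) : Subgroup G) = q := by rw [Nat.card_zpowers, hw']
  refine ⟨zpowers y, zpowers (w : G), by rw [hP]; exact hp, ?_, ?_, ?_, ?_⟩
  · rw [zpowers_le]
    exact w.2
  · intro u hu g hg hgu
    by_contra hcon
    push Not at hcon
    obtain ⟨hu1, hg1⟩ := hcon
    apply hCq
    have h1 : zpowers u = zpowers y := by
      apply Subgroup.eq_of_le_of_card_ge (zpowers_le.2 hu)
      rw [hP, Nat.card_zpowers]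
      refine Nat.le_of_dvd (orderOf_pos u) ?_
      rcases (Nat.dvd_prime hp).1 (hP ▸ (Nat.card_zpowers u ▸ Subgroup.card_dvd_of_le (zpowers_le.2 hu))) with h | h
      · exact absurd (orderOf_eq_one_iff.1 h) hu1
      · rw [h]
    have h2 : g ∈ centralizer ((zpowers y : Subgroup G) : Set G) := by
      rw [← h1, mem_centralizer_iff]
      intro x hx
      obtain ⟨k, rfl⟩ := mem_zpowers_iff.1 hx
      exact ((show Commute g u from hgu).zpow_right k).symm
    have h3 : orderOf g = q := by
      rcases (Nat.dvd_prime hq).1 (hQ ▸ (Nat.card_zpowers g ▸ Subgroup.card_dvd_of_le (zpowers_le.2 hg))) with h | h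
      · exact absurd (orderOf_eq_one_iff.1 h) hg1
      · exact h
    rw [← h3, ← Subgroup.orderOf_mk g h2]
    exact orderOf_dvd_natCard _
  · intro h
    rw [h, Subgroup.card_bot] at hQ
    exact hq.one_lt.ne hQ
  · intro T hT1 hPQ _
    refine hT T hT1 ?_
    rcases hPQ with h | h
    · exact Or.inl (hP ▸ Subgroup.card_dvd_of_le h)
    · exact Or.inr (hQ ▸ Subgroup.card_dvd_of_le h)

/-- transport -/
theorem frobRow_congr {X : Type u} {Y : Type v} [Group X] [Group Y] (e : X ≃* Y) {c : ℕ} {D : Set ℕ}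
    (h : FrobRow c D Y) : FrobRow c D X := by
  obtain ⟨P, Q, hP, hPQ, hfr, hQ, hT⟩ := h
  have hc : ∀ A : Subgroup Y, Nat.card (A.map e.symm.toMonoidHom) = Nat.card A := fun A =>
    card_map_of_injective e.symm.injective
  refine ⟨P.map e.symm.toMonoidHom, Q.map e.symm.toMonoidHom, by rwa [hc], ?_, ?_, ?_, ?_⟩
  · rintro _ ⟨g, hg, rfl⟩
    rw [mem_normalizer_iff]
    intro x
    have h1 := mem_normalizer_iff.1 (hPQ hg) (e x)
    have key : ∀ z : X, z ∈ P.map e.symm.toMonoidHom ↔ e z ∈ P := by
      intro z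
      constructor
      · rintro ⟨a, ha, rfl⟩
        show e (e.symm a) ∈ P
        rwa [e.apply_symm_apply]
      · intro hz
        exact ⟨e z, hz, e.symm_apply_apply z⟩
    rw [key, key, h1]
    have : e (e.symm.toMonoidHom g * x * (e.symm.toMonoidHom g)⁻¹) = g * e x * g⁻¹ := by
      show e (e.symm g * x * (e.symm g)⁻¹) = _
      rw [map_mul, map_mul, map_inv, e.apply_symm_apply]
    rw [this]
  · rintro _ ⟨u, hu, rfl⟩ _ ⟨g, hg, rfl⟩ hgu
    have h1 : g * u = u * g := by
      apply e.symm.injective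
      rw [map_mul, map_mul]
      exact hgu
    rcases hfr u hu g hg h1 with h2 | h2
    · left; rw [h2]; exact map_one _
    · right; rw [h2]; exact map_one _
  · intro h
    apply hQ
    exact (Subgroup.map_eq_bot_iff_of_injective _ e.symm.injective).1 h
  · intro T hT1 hPQ' hd
    have hTc : Nat.card (T.map e.toMonoidHom) = Nat.card T := card_map_of_injective e.injective
    let f : T ≃* T.map e.toMonoidHom := T.equivMapOfInjective _ e.injective
    have hk : Nat.card (ConjClasses T) = Nat.card (ConjClasses (T.map e.toMonoidHom)) := by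
      refine Nat.card_congr ⟨ConjClasses.map f.toMonoidHom, ConjClasses.map f.symm.toMonoidHom, ?_, ?_⟩
      · intro c
        obtain ⟨g, rfl⟩ := ConjClasses.exists_rep c
        exact congrArg ConjClasses.mk (f.symm_apply_apply g)
      · intro c
        obtain ⟨g, rfl⟩ := ConjClasses.exists_rep c
        exact congrArg ConjClasses.mk (f.apply_symm_apply g)
    have hi : (T.map e.toMonoidHom).index = T.index := by
      exact Subgroup.index_map_equiv T e
    have hle : ∀ A : Subgroup Y, A.map e.symm.toMonoidHom ≤ T → A ≤ T.map e.toMonoidHom := by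
      intro A hA a ha
      exact ⟨e.symm a, hA ⟨a, ha, rfl⟩, e.apply_symm_apply a⟩
    have := hT (T.map e.toMonoidHom) (by
      intro h
      apply hT1
      rw [← Subgroup.index_eq_one, ← hi, h, Subgroup.index_top]) (hPQ'.imp (hle P) (hle Q)) (by rwa [hi])
    rw [hTc, ← hk, Nat.card_congr e.toEquiv.symm] at this
    exact this

end Cfsg.Agent.H915.S8
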