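import Cfsg.Agent.H51.Ore.RuMain

/-!
# Bounds of the centralizers in the Rudvalis group (helper915, S4908)

From the class list of helper51.
-/

set_option autoImplicit false
set_option maxRecDepth 100000
set_option exponentiation.threshold 5000

namespace Cfsg.Agent.H915.S8.RuCent

open Subgroup Cfsg Cfsg.Agent.SporadicB Cfsg.Agent.SporRec.TCUpperCert Cfsg.Agent.RuD.Letters Cfsg.Agent.H51.Ore.Ru

theorem card_cent_conj {G : Type*} [Group G] {x y : G} (h : IsConj x y) :
    Nat.card (centralizer ({x} : Set G)) = Nat.card (centralizer ({y} : Set G)) := by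
  obtain ⟨c, rfl⟩ := isConj_iff.1 h
  refine Nat.card_congr ⟨fun a => ⟨c * a * c⁻¹, ?_⟩, fun a => ⟨c⁻¹ * a * c, ?_⟩, ?_, ?_⟩
  · rw [mem_centralizer_singleton_iff]
    have h1 := mem_centralizer_singleton_iff.1 a.2
    calc c * ↑a * c⁻¹ * (c * x * c⁻¹) = c * (a * x) * c⁻¹ := by group
      _ = c * (x * a) * c⁻¹ := by rw [h1]
      _ = _ := by group
  · rw [mem_centralizer_singleton_iff]
    have h1 := mem_centralizer_singleton_iff.1 a.2
    calc c⁻¹ * ↑a * c * x = c⁻¹ * (a * (c * x * c⁻¹)) * c := by group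
      _ = c⁻¹ * (c * x * c⁻¹ * a) * c := by rw [h1]
      _ = _ := by group
  · intro a
    apply Subtype.ext
    show c⁻¹ * (c * a * c⁻¹) * c = a
    group
  · intro a
    apply Subtype.ext
    show c * (c⁻¹ * a * c) * c⁻¹ = a
    group

/-- test points -/
def bs : List ℕ := [0, 29, 580, 577]

/-- the power of the word is not the identity -/
noncomputable def nz (w : List ℕ) (n : ℕ) : Bool := bs.any fun b => !Nat.beq (evalK (rpw w n) b) b

theorem ne_of_nz {w : List ℕ} {n : ℕ} (h : nz w n = true) : (wprod ml w : RuOrder.H) ^ n ≠ 1 := by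
  intro hc
  unfold nz at h
  obtain ⟨b, hb, hbb⟩ := List.any_eq_true.1 h
  rw [Bool.not_eq_true'] at hbb
  have hlt : b < 4060 := by
    simp only [bs, List.mem_cons, List.not_mem_nil, or_false] at hb
    rcases hb with rfl | rfl | rfl | rfl <;> norm_num
  have h4 := evalK_eq (rpw w n) ⟨b, hlt⟩
  rw [wprod_rpw, hc] at h4
  have h5 : b = evalK (rpw w n) b := h4
  rw [← h5, Nat.beq_refl] at hbb
  exact absurd hbb (by decide)

theorem cent_le (g : RuOrder.H) : (∃ r ∈ cls, IsConj (wprod ml r.w) g ∧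
    Nat.card (centralizer ({g} : Set RuOrder.H)) ≤ r.c) ∨ Nat.card (centralizer ({g} : Set RuOrder.H)) ≤ 16 := by
  rcases cover g with ⟨r, hr, h⟩ | h
  · refine Or.inl ⟨r, hr, h, ?_⟩
    rw [← card_cent_conj h]
    exact (cls_ok r hr).1
  · right
    rw [← card_cent_conj h, Cfsg.Agent.H235.Ore.ClassList.card_cent_inv]
    have hmem : (⟨w_16a, 16, (600, 794)⟩ : Cl) ∈ cls := by simp [cls]
    exact (cls_ok _ hmem).1

theorem wprod_nil' : (wprod ml [] : RuOrder.H) = 1 := rfl

theorem chk1 : (cls.all fun r => Nat.ble r.c 245760 || Nat.beq r.w.length 0) = true := by decide +kernel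

theorem chk2 : (cls.all fun r => Nat.ble r.c 7680 || chkRel [rpw r.w 2]) = true := by decide +kernel

theorem chk3 : (cls.all fun r => Nat.ble r.c 2160 || (nz r.w 3 || Nat.beq r.w.length 0)) = true := by decide +kernel

theorem chk5 : (cls.all fun r => Nat.ble r.c 1000 || (nz r.w 5 || Nat.beq r.w.length 0)) = true := by decide +kernel

theorem eq_one_of_nil {r : Cl} {g : RuOrder.H} (h : IsConj (wprod ml r.w) g) (hr : Nat.beq r.w.length 0 = true) : g = 1 := by
  have h1 : r.w = [] := List.eq_nil_of_length_eq_zero (Nat.eq_of_beq_eq_true hr)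
  rw [h1, wprod_nil'] at h
  exact (isConj_one_right.1 h)

/-- all elements different from `1` -/
theorem inv_le (g : RuOrder.H) (hg : g ≠ 1) : Nat.card (centralizer ({g} : Set RuOrder.H)) ≤ 245760 := by
  rcases cent_le g with ⟨r, hr, h, hc⟩ | h
  · have h1 := List.all_eq_true.1 chk1 r hr
    rw [Bool.or_eq_true, Nat.ble_eq] at h1
    rcases h1 with h1 | h1
    · exact hc.trans h1
    · exact absurd (eq_one_of_nil h h1) hg
  · exact h.trans (by norm_num)

/-- the elements which are not involutions -/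
theorem le_of_sq (g : RuOrder.H) (hg : g * g ≠ 1) : Nat.card (centralizer ({g} : Set RuOrder.H)) ≤ 7680 := by
  rcases cent_le g with ⟨r, hr, h, hc⟩ | h
  · have h1 := List.all_eq_true.1 chk2 r hr
    rw [Bool.or_eq_true, Nat.ble_eq] at h1
    rcases h1 with h1 | h1
    · exact hc.trans h1
    · exfalso
      have h2 := rel_of_chk h1 _ (List.mem_singleton_self _)
      rw [wprod_rpw] at h2
      apply hg
      obtain ⟨c, rfl⟩ := isConj_iff.1 h
      rw [pow_two] at h2
      calc c * wprod ml r.w * c⁻¹ * (c * wprod ml r.w * c⁻¹) = c * (wprod ml r.w * wprod ml r.w) * c⁻¹ := by group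
        _ = 1 := by rw [h2]; group
  · exact h.trans (by norm_num)

theorem le_of_pow {n c : ℕ} (h16 : 16 ≤ c) (hk : (cls.all fun r => Nat.ble r.c c || (nz r.w n || Nat.beq r.w.length 0)) = true)
    (g : RuOrder.H) (hg : g ≠ 1) (hgn : g ^ n = 1) : Nat.card (centralizer ({g} : Set RuOrder.H)) ≤ c := by
  rcases cent_le g with ⟨r, hr, h, hc⟩ | h
  · have h1 := List.all_eq_true.1 hk r hr
    rw [Bool.or_eq_true, Bool.or_eq_true, Nat.ble_eq] at h1
    rcases h1 with h1 | h1 | h1
    · exact hc.trans h1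
    · exfalso
      apply ne_of_nz h1
      obtain ⟨d, rfl⟩ := isConj_iff.1 h
      rw [conj_pow] at hgn
      calc (wprod ml r.w : RuOrder.H) ^ n = d⁻¹ * (d * wprod ml r.w ^ n * d⁻¹) * d := by group
        _ = 1 := by rw [hgn]; group
    · exact absurd (eq_one_of_nil h h1) hg
  · exact h.trans h16

theorem c3 (g : RuOrder.H) (hg : orderOf g = 3) : Nat.card (centralizer ({g} : Set RuOrder.H)) ≤ 2160 :=
  le_of_pow (by norm_num) chk3 g (by rintro rfl; rw [orderOf_one] at hg; omega) (by rw [← hg]; exact pow_orderOf_eq_one g)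

theorem c5 (g : RuOrder.H) (hg : orderOf g = 5) : Nat.card (centralizer ({g} : Set RuOrder.H)) ≤ 1000 :=
  le_of_pow (by norm_num) chk5 g (by rintro rfl; rw [orderOf_one] at hg; omega) (by rw [← hg]; exact pow_orderOf_eq_one g)

end Cfsg.Agent.H915.S8.RuCent
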