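import Cfsg.Agent.H536.K4.Ru
import Cfsg.Agent.H649.MonoMin

/-!
# Subgroups of small index in the Rudvalis group are transitive on the 4060 points (helper915, S4908)
-/

set_option autoImplicit false

namespace Cfsg.Agent.H915.S8.RuTrans

open Cfsg Subgroup Cfsg.Agent.SporadicB Cfsg.Agent.Characters.Core
open scoped ComplexConjugate

theorem ne_one_of_deg {G : Type*} [Group G] [Finite G] {χ : G → ℂ} {n : ℕ} (h : charDegree χ = n) (hn : n ≠ 1) : χ ≠ 1 := by
  rintro rfl
  apply hn
  rw [← h]
  exact Cfsg.Agent.Blocks.Basic.charDegree_of_eq (by simp)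

theorem dvd_of_index (T : Subgroup RuOrder.H) (hT : T.index < 783) : 4060 ∣ Nat.card T := by
  classical
  have hfin : Finite RuOrder.H := Cfsg.Agent.H690.Spor.Ru.instFiniteH
  have _i1 := Fintype.ofFinite RuOrder.H
  have _i2 := Fintype.ofFinite T
  obtain ⟨χ₁, χ₂, h1, h2, hπ⟩ := Cfsg.Agent.H536.K4.Ru.exists_perm
  have z1 : classInner (H649.MN.perm T) (χ₁ : RuOrder.H → ℂ) = 0 := by
    by_contra hne
    have h3 := H649.MN.charDegree_lt χ₁.2 (ne_one_of_deg h1 (by norm_num)) hne
    omega
  have z2 : classInner (H649.MN.perm T) (χ₂ : RuOrder.H → ℂ) = 0 := by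
    by_contra hne
    have h3 := H649.MN.charDegree_lt χ₂.2 (ne_one_of_deg h2 (by norm_num)) hne
    omega
  have z : classInner (H649.MN.perm T) ((1 : RuOrder.H → ℂ) + (χ₁ : RuOrder.H → ℂ) + (χ₂ : RuOrder.H → ℂ)) = 1 := by
    rw [classInner_add_right, classInner_add_right, z1, z2, H649.MN.classInner_perm_one, add_zero, add_zero]
  have hcl : IsClassFunction RuOrder.H ((1 : RuOrder.H → ℂ) + (χ₁ : RuOrder.H → ℂ) + (χ₂ : RuOrder.H → ℂ)) := by
    intro g x
    have a1 := isIrr_isClassFunction χ₁.2 g x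
    have a2 := isIrr_isClassFunction χ₂.2 g x
    simp only [Pi.add_apply, Pi.one_apply]
    rw [a1, a2]
  have w : classInner (H649.MN.perm T) ((1 : RuOrder.H → ℂ) + (χ₁ : RuOrder.H → ℂ) + (χ₂ : RuOrder.H → ℂ)) =
      (Nat.card T : ℂ)⁻¹ * ∑ t : T, (Nat.card (MulAction.fixedBy (Fin 4060) (t : RuOrder.H)) : ℂ) := by
    unfold H649.MN.perm
    rw [Cfsg.Agent.Characters.Brauer.classInner_indFun T _ _ _ hcl]
    unfold classInner
    congr 1
    refine Finset.sum_congr rfl fun t _ => ?_
    have h3 := hπ (t : RuOrder.H)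
    simp only [Pi.add_apply, Pi.one_apply, one_mul]
    rw [← h3, Complex.conj_natCast]
  rw [z] at w
  have hc0 : (Nat.card T : ℂ) ≠ 0 := Nat.cast_ne_zero.2 Nat.card_pos.ne'
  have hsum : ∑ t : T, Nat.card (MulAction.fixedBy (Fin 4060) (t : RuOrder.H)) = Nat.card T := by
    have h3 : (∑ t : T, (Nat.card (MulAction.fixedBy (Fin 4060) (t : RuOrder.H)) : ℂ)) = Nat.card T := by
      field_simp at w
      exact w.symm
    exact_mod_cast h3
  have hB := MulAction.sum_card_fixedBy_eq_card_orbits_mul_card_group T (Fin 4060)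
  have hB2 : ∑ a : T, Fintype.card (MulAction.fixedBy (Fin 4060) a) = Nat.card T := by
    rw [← hsum]
    refine Finset.sum_congr rfl fun t _ => ?_
    rw [Nat.card_eq_fintype_card]
    exact Fintype.card_congr (Equiv.refl _)
  rw [hB2, Nat.card_eq_fintype_card] at hB
  have hq : Fintype.card (Quotient (MulAction.orbitRel T (Fin 4060))) = 1 := by
    have h3 : 0 < Fintype.card T := Fintype.card_pos
    exact Nat.eq_of_mul_eq_mul_right h3 (by rw [one_mul]; exact hB.symm)
  have hss : Subsingleton (Quotient (MulAction.orbitRel T (Fin 4060))) := (Fintype.card_le_one_iff_subsingleton).1 hq.le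
  have horb : MulAction.orbit T (0 : Fin 4060) = Set.univ := by
    rw [Set.eq_univ_iff_forall]
    intro x
    have h3 : (Quotient.mk (MulAction.orbitRel T (Fin 4060)) x) = Quotient.mk _ 0 := Subsingleton.elim _ _
    exact (Quotient.exact h3)
  have h4 := MulAction.index_stabilizer T (0 : Fin 4060)
  rw [horb, Set.ncard_univ, Nat.card_eq_fintype_card, Fintype.card_fin] at h4
  have h5 := Subgroup.index_dvd_card (MulAction.stabilizer T (0 : Fin 4060))
  rw [h4] at h5
  exact h5

end Cfsg.Agent.H915.S8.RuTrans
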