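import Cfsg.Agent.H915.S8.Kill
import Cfsg.Agent.H915.S8.RuCent
import Cfsg.Agent.H915.S8.RuTrans
import Cfsg.Agent.H915.S8.FrobOf
import Cfsg.Agent.H740.S8.Comm
import Cfsg.Agent.H755.S8.KL
import Cfsg.Agent.H148.Ru.Row

/-!
# S4908: the row FROB of the Rudvalis group (helper915)

The Frobenius group is `29 : 7`. For a proper subgroup `T` of order divisible by 29 or 7: index at least 21537 by the bound
of helper740; index 145, 290, 580: `T` is transitive on the 4060 points; 1131, 1885, 2262, 3770, 4524: a large normal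
2-subgroup on which a Sylow 5-subgroup acts faithfully; the six other orders by helper755's bound of the class number.
-/

set_option autoImplicit false
set_option maxRecDepth 100000
set_option exponentiation.threshold 5000

namespace Cfsg.Agent.H915.S8.RuFrob

open Subgroup Cfsg Cfsg.Agent.SporadicB Cfsg.Agent.H940 Cfsg.Agent.H940.Eng Cfsg.Agent.H940.Eng.D Cfsg.Agent.OrdDiv
open Cfsg.Agent.H148.Ru

/-- the indices, divided by 29, of the subgroups of order divisible by 7 and not by 29 -/
def lD7 : List (ℕ × ℕ) := [(2, 14), (3, 3), (5, 3), (13, 1)]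

def L : List ℕ := [145, 290, 580, 1131, 1885, 2262, 3770, 4524, 3625, 7540, 9048, 11600, 15080, 18096]

def locA : List LD := [⟨13, 52, [(2, 4), (3, 1), (13, 1)]⟩, ⟨7, 28, [(2, 3), (3, 1), (7, 1)]⟩]
def locB : List LD := [⟨29, 29, [(2, 1), (7, 1), (29, 1)]⟩]

noncomputable def chkI : Bool := (divsT lD7).all fun d => Nat.ble 743 d || (L.any (fun x => Nat.beq x (29 * d)) ||
  bad l_ru n_ru [] 0 locA o_ru (n_ru / (29 * d)))

theorem chkI_ok : chkI = true := by decide +kernel

/-- the indices of the subgroups of order divisible by 29 -/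
def lD29 : List (ℕ × ℕ) := [(2, 14), (3, 3), (5, 3), (7, 1), (13, 1)]

noncomputable def chkJ : Bool := (divsT lD29).all fun d => Nat.ble 21537 d || (Nat.beq d 1 ||
  bad l_ru n_ru [] 0 locB o_ru (n_ru / d))

theorem chkJ_ok : chkJ = true := by decide +kernel

theorem card' : Nat.card RuOrder.H = 145926144000 := RuOrder.card_H

theorem div_index (T : Subgroup RuOrder.H) : n_ru / T.index = Nat.card T := by
  have := H148.Ru.fin
  have h1 := card_mul_index T
  rw [card'] at h1
  change 145926144000 / T.index = _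
  rw [← h1]
  exact Nat.mul_div_cancel _ (Nat.pos_of_ne_zero index_ne_zero_of_finite)

theorem index_dvd_of (T : Subgroup RuOrder.H) {r m : ℕ} (hr : r ∣ Nat.card T) (h : 145926144000 = r * m) (h0 : 0 < r) :
    T.index ∣ m := by
  obtain ⟨z, hz⟩ := hr
  have h1 := card_mul_index T
  rw [card', hz, h] at h1
  have h2 : z * T.index = m := Nat.eq_of_mul_eq_mul_left h0 (by rw [← h1]; ring)
  exact ⟨z, by rw [← h2]; ring⟩

theorem prime_list {l : List (ℕ × ℕ)} (h : (l.all fun x => isPrimeB x.1) = true) : ∀ x ∈ l, (x.1).Prime := fun x hx =>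
  prime_of (List.all_eq_true.1 h x hx)

theorem locA_ok (B : Base) : ∀ ld ∈ locA, Loc RuOrder.H ld := by
  intro ld hld
  apply (ctx B).loc
  simp only [locA, loc, List.mem_cons, List.not_mem_nil, or_false] at hld ⊢
  rcases hld with rfl | rfl
  · exact Or.inr (Or.inl rfl)
  · exact Or.inl rfl

theorem locB_ok (B : Base) : ∀ ld ∈ locB, Loc RuOrder.H ld := by
  intro ld hld
  apply (ctx B).loc
  simp only [locB, loc, List.mem_cons, List.not_mem_nil, or_false] at hld ⊢
  exact Or.inr (Or.inr hld)

theorem index7 (B : Base) {T : Subgroup RuOrder.H} (hT : T ≠ ⊤) (h : 7 ∣ Nat.card T) (h29 : ¬ 29 ∣ Nat.card T) :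
    21537 ≤ T.index ∨ T.index ∈ L := by
  have c := ctx B
  have := c.fin
  have := c.simple
  have hd : T.index ∣ 29 * prodl lD7 := index_dvd_of T h (by decide +kernel) (by norm_num)
  have h9 : 29 ∣ T.index := by
    have h1 : 29 ∣ Nat.card T * T.index := by rw [card_mul_index, card']; norm_num
    exact ((Nat.Prime.dvd_mul (by norm_num)).1 h1).resolve_left h29
  obtain ⟨d, hdd⟩ := h9
  have hd' : d ∣ prodl lD7 := by
    rw [hdd] at hd
    exact Nat.dvd_of_mul_dvd_mul_left (by norm_num) hd
  have h1 := List.all_eq_true.1 chkI_ok _ (mem_divsT (prime_list (l := lD7) (by decide +kernel)) hd')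
  rw [Bool.or_eq_true, Bool.or_eq_true, ← hdd, div_index,
    not_bad c.val c.card c.ords (locA_ok B) (fun p hp => absurd hp List.not_mem_nil) hT, Nat.ble_eq] at h1
  rcases h1 with h1 | h1 | h1
  · left
    rw [hdd]
    omega
  · obtain ⟨x, hx, hx2⟩ := List.any_eq_true.1 h1
    rw [← Nat.eq_of_beq_eq_true hx2]
    exact Or.inr hx
  · exact absurd h1 (by decide)

theorem index29 (B : Base) {T : Subgroup RuOrder.H} (hT : T ≠ ⊤) (h : 29 ∣ Nat.card T) : 21537 ≤ T.index := by
  have c := ctx B
  have := c.fin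
  have := c.simple
  have hd : T.index ∣ prodl lD29 := index_dvd_of T h (by decide +kernel) (by norm_num)
  have h1 := List.all_eq_true.1 chkJ_ok _ (mem_divsT (prime_list (l := lD29) (by decide +kernel)) hd)
  rw [Bool.or_eq_true, Bool.or_eq_true, div_index,
    not_bad c.val c.card c.ords (locB_ok B) (fun p hp => absurd hp List.not_mem_nil) hT, Nat.ble_eq] at h1
  rcases h1 with h1 | h1 | h1
  · exact h1
  · exact absurd (index_eq_one.1 (Nat.eq_of_beq_eq_true h1)) hT
  · exact absurd h1 (by decide)

/-- subgroups of large index -/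
theorem large {T : Subgroup RuOrder.H} (h : 21537 ≤ T.index) :
    1 * (Nat.card T * Nat.card (ConjClasses T)) ≤ Nat.card RuOrder.H := by
  have := H148.Ru.fin
  refine H740.S8.Comm.bound T (M := 245760) (C := 7680) (R := 382002) (fun g hg _ => RuCent.inv_le g hg)
    (fun g hg => RuCent.le_of_sq g hg) (by norm_num) (by rw [card']; norm_num) ?_
  have h1 := card_mul_index T
  rw [card'] at h1
  have h2 : Nat.card T ≤ 6775602 := by
    by_contra hlt
    push Not at hlt
    have h3 : 6775603 * 21537 ≤ Nat.card T * T.index := Nat.mul_le_mul hlt h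
    rw [h1] at h3
    norm_num at h3
  omega

theorem cent_sub {G : Type*} [Group G] [Finite G] (T : Subgroup G) (z : T) :
    Nat.card (centralizer ({z} : Set T)) ∣ Nat.card (centralizer ({(z : G)} : Set G)) := by
  have h3 : (centralizer ({z} : Set T)).map T.subtype ≤ centralizer ({(z : G)} : Set G) := by
    rintro _ ⟨a, ha, rfl⟩
    rw [mem_centralizer_singleton_iff]
    exact congrArg Subtype.val (mem_centralizer_singleton_iff.1 ha)
  rw [← card_map_of_injective T.subtype_injective]
  exact card_dvd_of_le h3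

theorem loc7 (B : Base) : Loc RuOrder.H ⟨7, 28, [(2, 3), (3, 1), (7, 1)]⟩ := (ctx B).loc _ (by simp [loc])

theorem c7 (B : Base) (z : RuOrder.H) (hz : orderOf z = 7) : Nat.card (centralizer ({z} : Set RuOrder.H)) ∣ 28 := by
  have h1 := (loc7 B).2.2.2 (zpowers z) (by rw [Nat.card_zpowers, hz])
  rw [cent_eq rfl] at h1
  exact h1.1

theorem c13 (z : RuOrder.H) (hz : orderOf z = 13) : Nat.card (centralizer ({z} : Set RuOrder.H)) ≤ 52 :=
  Nat.le_of_dvd (by norm_num) (H436.TwoRu.cent13 z hz)

theorem card_of_index {T : Subgroup RuOrder.H} {i m : ℕ} (h : T.index = i) (hm : 145926144000 = m * i) (hi : 0 < i) :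
    Nat.card T = m := by
  have h1 := card_mul_index T
  rw [card', h, hm] at h1
  exact Nat.eq_of_mul_eq_mul_right hi h1

/-- `k` is in the list for all decompositions -/
noncomputable def chkK (lM : List (ℕ × ℕ)) (M : ℕ) (A : List ℕ) : Bool :=
  (divsT lM).all fun k => (7 :: o_ru).all fun s => (divsT [(2, 3), (3, 1), (7, 1)]).all fun t =>
    !(Nat.beq M (k * s * t)) || (!(pc l_ru 7 28 k) || (!(nuc (divsT [(2, 3), (3, 1), (7, 1)]) 7 168 s t) ||
      (s % 7 != 0 || A.any fun x => Nat.beq x k)))

theorem kill' (B : Base) {T : Subgroup RuOrder.H} {lM : List (ℕ × ℕ)} {M : ℕ} {A : List ℕ} {e b : ℕ} (hM : Nat.card T = M)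
    (hl : prodl lM = M) (hp : ∀ x ∈ lM, (x.1).Prime) (hA : ∀ x ∈ A, ∃ a, x = 2 ^ a ∧ 3 ≤ a ∧ a ≤ b) (h7 : 7 ∣ M) (h5 : 5 ^ e ∣ M)
    (hno : ∀ d ≤ b, ¬ 5 ^ e ∣ ∏ i : Fin d, (2 ^ d - 2 ^ (i : ℕ))) (hc : chkK lM M A = true) : False := by
  have c := ctx B
  have := c.fin
  obtain ⟨K, hKn, hmax, s, t, e1, e2, e3, e4, e5, e6, e7, e8⟩ := struct_subK c.val c.card c.ords (loc7 B) (H := T) (by
    rw [hM]; exact h7)
  have hkM : Nat.card K ∣ prodl lM := by rw [hl, ← hM]; exact card_subgroup_dvd_card K
  have hkn : Nat.card K ∣ n_ru := by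
    refine (card_subgroup_dvd_card K).trans ?_
    rw [← c.card]
    exact card_subgroup_dvd_card T
  have h1 := List.all_eq_true.1 (List.all_eq_true.1 (List.all_eq_true.1 hc _ (mem_divsT hp hkM)) s e3) t e5
  have e8' : nuc (divsT [(2, 3), (3, 1), (7, 1)]) 7 168 s t = true := e8
  have e4' : (s % 7 != 0) = false := by
    rw [bne_eq_false_iff_eq]
    exact Nat.mod_eq_zero_of_dvd e4
  rw [Bool.or_eq_true, Bool.or_eq_true, e8', e4', Bool.or_eq_true, Bool.false_or] at h1
  have hpc : pc l_ru 7 28 (Nat.card K) = true := by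
    unfold pc
    rw [List.all_eq_true]
    intro x hx
    rw [val_le c.val hkn x hx]
    exact e7 _ (valid_prime c.val x hx)
  rcases h1 with h1 | h1 | h1 | h1
  · rw [← hM, e1, Nat.beq_refl] at h1
    exact absurd h1 (by decide)
  · rw [hpc] at h1
    exact absurd h1 (by decide)
  · exact absurd h1 (by decide)
  · obtain ⟨x, hx, hx2⟩ := List.any_eq_true.1 h1
    obtain ⟨a, ha, ha3, hab⟩ := hA x hx
    have hK : Nat.card K = 2 ^ a := by rw [← Nat.eq_of_beq_eq_true hx2]; exact ha
    refine kill K hmax hK ha3 (fun z hz => (cent_sub T z).trans (c7 B z (by rw [Subgroup.orderOf_coe]; exact hz)))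
      (e := e) (by rw [hM]; exact h5) (fun d hd => hno d (hd.trans hab))

def A7 : List ℕ := [16, 32, 64, 128]
def A10 : List ℕ := [32, 64, 128, 256, 512, 1024]

theorem hA7 : ∀ x ∈ A7, ∃ a, x = 2 ^ a ∧ 3 ≤ a ∧ a ≤ 7 := by
  intro x hx
  simp only [A7, List.mem_cons, List.not_mem_nil, or_false] at hx
  rcases hx with rfl | rfl | rfl | rfl
  · exact ⟨4, by norm_num, by norm_num, by norm_num⟩
  · exact ⟨5, by norm_num, by norm_num, by norm_num⟩
  · exact ⟨6, by norm_num, by norm_num, by norm_num⟩
  · exact ⟨7, by norm_num, by norm_num, by norm_num⟩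

theorem hA10 : ∀ x ∈ A10, ∃ a, x = 2 ^ a ∧ 3 ≤ a ∧ a ≤ 10 := by
  intro x hx
  simp only [A10, List.mem_cons, List.not_mem_nil, or_false] at hx
  rcases hx with rfl | rfl | rfl | rfl | rfl | rfl
  · exact ⟨5, by norm_num, by norm_num, by norm_num⟩
  · exact ⟨6, by norm_num, by norm_num, by norm_num⟩
  · exact ⟨7, by norm_num, by norm_num, by norm_num⟩
  · exact ⟨8, by norm_num, by norm_num, by norm_num⟩
  · exact ⟨9, by norm_num, by norm_num, by norm_num⟩
  · exact ⟨10, by norm_num, by norm_num, by norm_num⟩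

/-- subgroups of small index -/
theorem small {T : Subgroup RuOrder.H} (h : T.index < 783) (h29 : ¬ 29 ∣ Nat.card T) : False :=
  h29 ((show 29 ∣ 4060 by norm_num).trans (RuTrans.dvd_of_index T h))

theorem exists_z {T : Subgroup RuOrder.H} {p : ℕ} (hp : p.Prime) (h : p ∣ Nat.card T) {c : ℕ}
    (hc : ∀ z : RuOrder.H, orderOf z = p → Nat.card (centralizer ({z} : Set RuOrder.H)) ≤ c) :
    ∃ z : T, orderOf z = p ∧ Nat.card (centralizer ({z} : Set T)) ≤ c := by
  have := H148.Ru.fin
  have : Fact p.Prime := ⟨hp⟩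
  obtain ⟨z, hz⟩ := exists_prime_orderOf_dvd_card' (G := T) p h
  exact ⟨z, hz, (Nat.le_of_dvd Nat.card_pos (cent_sub T z)).trans (hc z (by rw [Subgroup.orderOf_coe]; exact hz))⟩

/-- the bounds -/
def cc (p : ℕ) : ℕ := if p = 3 then 2160 else if p = 5 then 1000 else if p = 7 then 28 else 52

theorem class_le (B : Base) {T : Subgroup RuOrder.H} (s : Finset ℕ) (hs : s ⊆ {3, 5, 7, 13}) (hd : ∀ p ∈ s, p ∣ Nat.card T) :
    Nat.card (ConjClasses T) ≤ ∑ p ∈ s, cc p + Nat.card T / (∏ p ∈ s, p) ^ 2 := by
  have := H148.Ru.fin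
  refine H755.S8.card_conj_le s ?_ cc ?_
  · intro p hp
    have h1 := hs hp
    simp only [Finset.mem_insert, Finset.mem_singleton] at h1
    rcases h1 with rfl | rfl | rfl | rfl <;> norm_num
  · intro p hp
    have h1 := hs hp
    have h2 := hd p hp
    simp only [Finset.mem_insert, Finset.mem_singleton] at h1
    rcases h1 with rfl | rfl | rfl | rfl
    · exact exists_z (by norm_num) h2 (fun z hz => RuCent.c3 z hz)
    · exact exists_z (by norm_num) h2 (fun z hz => RuCent.c5 z hz)
    · exact exists_z (by norm_num) h2 (fun z hz => Nat.le_of_dvd (show 0 < 28 by norm_num) (c7 B z hz))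
    · exact exists_z (by norm_num) h2 (fun z hz => c13 z hz)

theorem by_class (B : Base) {T : Subgroup RuOrder.H} {i m : ℕ} (hi : T.index = i) (hm : 145926144000 = m * i) (h0 : 0 < i)
    (s : Finset ℕ) (hs : s ⊆ {3, 5, 7, 13}) (hd : ∀ p ∈ s, p ∣ m) (hb : ∑ p ∈ s, cc p + m / (∏ p ∈ s, p) ^ 2 ≤ i) :
    1 * (Nat.card T * Nat.card (ConjClasses T)) ≤ Nat.card RuOrder.H := by
  have h1 := card_of_index hi hm h0
  have h2 := class_le B (T := T) s hs (by rw [h1]; exact hd)
  rw [h1] at h2
  rw [one_mul, h1, card', hm]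
  exact Nat.mul_le_mul_left _ (h2.trans hb)

set_option maxHeartbeats 4000000 in
theorem bound (B : Base) {T : Subgroup RuOrder.H} (hT : T ≠ ⊤) (h : 29 ∣ Nat.card T ∨ 7 ∣ Nat.card T) :
    1 * (Nat.card T * Nat.card (ConjClasses T)) ≤ Nat.card RuOrder.H := by
  by_cases h29 : 29 ∣ Nat.card T
  · exact large (index29 B hT h29)
  · have h7 := h.resolve_left h29
    rcases index7 B hT h7 h29 with h1 | h1
    · exact large h1
    · simp only [L, List.mem_cons, List.not_mem_nil, or_false] at h1
      rcases h1 with h1 | h1 | h1 | h1 | h1 | h1 | h1 | h1 | h1 | h1 | h1 | h1 | h1 | h1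
      · exact (small (by omega) h29).elim
      · exact (small (by omega) h29).elim
      · exact (small (by omega) h29).elim
      · exact (kill' B (card_of_index h1 (m := 129024000) (by norm_num) (by norm_num)) (lM := [(2,14),(3,2),(5,3),(7,1)])
          (by decide +kernel) (prime_list (by decide +kernel)) hA10 (by norm_num) (e := 3) (by norm_num) no125
          (by decide +kernel)).elim
      · exact (kill' B (card_of_index h1 (m := 77414400) (by norm_num) (by norm_num)) (lM := [(2,14),(3,3),(5,2),(7,1)])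
          (by decide +kernel) (prime_list (by decide +kernel)) hA7 (by norm_num) (e := 2) (by norm_num) no25
          (by decide +kernel)).elim
      · exact (kill' B (card_of_index h1 (m := 64512000) (by norm_num) (by norm_num)) (lM := [(2,13),(3,2),(5,3),(7,1)])
          (by decide +kernel) (prime_list (by decide +kernel)) hA10 (by norm_num) (e := 3) (by norm_num) no125
          (by decide +kernel)).elim
      · exact (kill' B (card_of_index h1 (m := 38707200) (by norm_num) (by norm_num)) (lM := [(2,13),(3,3),(5,2),(7,1)])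
          (by decide +kernel) (prime_list (by decide +kernel)) hA7 (by norm_num) (e := 2) (by norm_num) no25
          (by decide +kernel)).elim
      · exact (kill' B (card_of_index h1 (m := 32256000) (by norm_num) (by norm_num)) (lM := [(2,12),(3,2),(5,3),(7,1)])
          (by decide +kernel) (prime_list (by decide +kernel)) hA10 (by norm_num) (e := 3) (by norm_num) no125
          (by decide +kernel)).elim
      · exact by_class B h1 (m := 40255488) (by norm_num) (by norm_num) {3, 7, 13} (by decide) (by decide) (by decide)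
      · exact by_class B h1 (m := 19353600) (by norm_num) (by norm_num) {3, 5, 7} (by decide) (by decide) (by decide)
      · exact by_class B h1 (m := 16128000) (by norm_num) (by norm_num) {3, 5, 7} (by decide) (by decide) (by decide)
      · exact by_class B h1 (m := 12579840) (by norm_num) (by norm_num) {5, 7, 13} (by decide) (by decide) (by decide)
      · exact by_class B h1 (m := 9676800) (by norm_num) (by norm_num) {3, 5, 7} (by decide) (by decide) (by decide)
      · exact by_class B h1 (m := 8064000) (by norm_num) (by norm_num) {3, 5, 7} (by decide) (by decide) (by decide)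

theorem n29 {R : Subgroup RuOrder.H} (hR : Nat.card R = 29) : Nat.card (normalizer (R : Set RuOrder.H)) = 406 := by
  have := H148.Ru.fin
  have := H148.Ru.simple
  exact (cn_exact na H148.Ru.card (r := 29) (by decide +kernel) (by decide +kernel) (by decide +kernel) hR (cent29 hR)
      (C := 29) (N := 406) (by decide +kernel) hR).2

theorem n29' (R : Subgroup RuOrder.H) (hR : Nat.card R = 29) : 7 ∣ Nat.card (normalizer (R : Set RuOrder.H)) ∧
    ¬ 7 ∣ Nat.card (centralizer (R : Set RuOrder.H)) := by
  constructor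
  · rw [n29 hR]
    norm_num
  · intro h
    have h1 := h.trans (cent29 hR)
    have h2 : ¬ 7 ∣ prodl [(29, 1)] := by decide +kernel
    exact h2 h1

theorem frob_model (B : Base) (D : Set ℕ) : Cfsg.Agent.H704.S8.FrobRow 1 D RuOrder.H := by
  have := H148.Ru.fin
  exact frobRow_of (p := 29) (q := 7) (by norm_num) (by norm_num) (by rw [card']; norm_num) n29'
    (fun T hT h => bound B hT h) D

/-- **S4908, the row FROB of the Rudvalis group** -/
theorem frob {X : Type*} [Group X] (h : Spor.IsoRu X) (B : Base) (D : Set ℕ) : Cfsg.Agent.H704.S8.FrobRow 1 D X := by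
  obtain ⟨e⟩ := h
  exact frobRow_congr (e.trans Cfsg.Agent.RuLat.Main.equiv) (frob_model B D)

end Cfsg.Agent.H915.S8.RuFrob
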