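import Cfsg.Agent.H915.S8.StructK
import Cfsg.Agent.BpSpor.Act

/-!
# Large normal 2-subgroups (helper915, S4908)
-/

set_option autoImplicit false

namespace Cfsg.Agent.H915.S8

open Subgroup

universe u

theorem no25 : ∀ d ≤ 7, ¬ 25 ∣ ∏ i : Fin d, (2 ^ d - 2 ^ (i : ℕ)) := by decide +kernel

theorem no125 : ∀ d ≤ 10, ¬ 125 ∣ ∏ i : Fin d, (2 ^ d - 2 ^ (i : ℕ)) := by decide +kernel

/-- `K` the largest normal `7'`-subgroup of `T`, of order `2 ^ a`, `a ≥ 3`; the elements of order 7 have centralizers of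
order dividing 28: a power of 5 dividing `|T|` divides the order of the automorphism group of `K` -/
theorem kill {T : Type u} [Group T] [Finite T] (K : Subgroup T) [K.Normal]
    (hmax : ∀ N : Subgroup T, N.Normal → ¬ 7 ∣ Nat.card N → N ≤ K) {a e : ℕ} (hK : Nat.card K = 2 ^ a) (ha : 3 ≤ a)
    (h7 : ∀ z : T, orderOf z = 7 → Nat.card (centralizer ({z} : Set T)) ∣ 28) (h5 : 5 ^ e ∣ Nat.card T)
    (hno : ∀ d ≤ a, ¬ 5 ^ e ∣ ∏ i : Fin d, (2 ^ d - 2 ^ (i : ℕ))) : False := by
  set C : Subgroup T := (MulAut.conjNormal (H := K)).ker with hC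
  have hCK : ∀ c ∈ C, ∀ k ∈ K, c * k = k * c := by
    intro c hc k hk
    rw [hC, MonoidHom.mem_ker] at hc
    have h1 := congrArg Subtype.val (DFunLike.congr_fun hc ⟨k, hk⟩)
    rw [MulAut.conjNormal_apply] at h1
    have h2 : c * k * c⁻¹ = k := h1
    calc c * k = c * k * c⁻¹ * c := by group
      _ = k * c := by rw [h2]
  by_cases h : 7 ∣ Nat.card C
  · have : Fact (Nat.Prime 7) := ⟨by norm_num⟩
    obtain ⟨z, hz⟩ := exists_prime_orderOf_dvd_card' (G := C) 7 h
    have hz' : orderOf (z : T) = 7 := by rw [Subgroup.orderOf_coe, hz]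
    have h1 : K ≤ centralizer ({(z : T)} : Set T) := by
      intro k hk
      rw [mem_centralizer_singleton_iff]
      exact (hCK z z.2 k hk).symm
    have h2 := (card_dvd_of_le h1).trans (h7 _ hz')
    rw [hK] at h2
    have h3 : 2 ^ 3 ∣ 28 := (pow_dvd_pow 2 ha).trans h2
    norm_num at h3
  · have h1 : C ≤ K := hmax C inferInstance h
    have h2 : Nat.card C * C.index = Nat.card T := card_mul_index C
    have h3 : C.index ∣ Nat.card (MulAut K) := by
      rw [hC, index_ker]
      exact card_subgroup_dvd_card _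
    have hcop : Nat.Coprime (5 ^ e) (Nat.card C) := by
      have h4 : Nat.card C ∣ 2 ^ a := hK ▸ card_dvd_of_le h1
      exact Nat.Coprime.coprime_dvd_right h4 (Nat.Coprime.pow _ _ (by norm_num))
    have h4 : 5 ^ e ∣ Nat.card (MulAut K) := by
      rw [← h2] at h5
      exact (hcop.dvd_of_dvd_mul_left h5).trans h3
    have : Fact (Nat.Prime 2) := ⟨Nat.prime_two⟩
    obtain ⟨d, M, hd, -, hM⟩ := Cfsg.Agent.BpSpor.card_mulAut_dvd (IsPGroup.of_card hK) hK
    have h6 := h4.trans hM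
    exact hno d hd ((Nat.Coprime.pow _ _ (by norm_num : Nat.Coprime 5 2)).dvd_of_dvd_mul_left h6)

end Cfsg.Agent.H915.S8
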