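import Cfsg.Agent.H940.Engine

/-!
# The structure at a prime dividing the order once, with the normal subgroup (helper915, S4908)

`structK`, `struct_subK` : copies of `struct`, `struct_sub` of helper940 which also return the largest normal `r'`-subgroup.
-/

set_option autoImplicit false

namespace Cfsg.Agent.H915.S8

open Subgroup Cfsg.Agent.OrdDiv Cfsg.Agent.H940 Cfsg.Agent.H940.Eng

universe u

/-- **the structure at a prime dividing the order once** -/
theorem structK {X : Type u} [Group X] [Finite X] {r : ℕ} (hr : r.Prime) (h2 : ¬ r ^ 2 ∣ Nat.card X)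
    (R : Subgroup X) (hR : Nat.card R = r) :
    ∃ K : Subgroup X, K.Normal ∧ (∀ N : Subgroup X, N.Normal → ¬ r ∣ Nat.card N → N ≤ K) ∧
    ∃ c s ν t : ℕ, Nat.card X = Nat.card K * s * t ∧ Nat.card (normalizer (R : Set X)) = c * ν * t ∧
      c ∣ Nat.card (centralizer (R : Set X)) ∧ c ∣ Nat.card K ∧ ¬ r ∣ Nat.card K ∧ r ∣ ν ∧ ν ∣ s ∧ s / ν ≡ 1 [MOD r] ∧
      (∀ p : ℕ, p.Prime → ∃ j : ℕ, p ^ j ∣ c ∧ p ^ ((Nat.card K).factorization p) ≡ p ^ j [MOD r]) ∧
      (s = r ∨ ∃ (S : Type u) (_ : Group S) (_ : Finite S), IsSimpleGroup S ∧ (¬ ∀ a b : S, a * b = b * a) ∧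
        Nat.card S = s) := by
  have := Fact.mk hr
  obtain ⟨K, ⟨hKn, hrK⟩, hKmax⟩ := exists_card_max (P := fun T : Subgroup X => T.Normal ∧ ¬ r ∣ Nat.card T)
    ⟨⊥, inferInstance, by rw [card_bot]; exact hr.one_lt.ne' ∘ Nat.dvd_one.1⟩
  let f : X →* X ⧸ K := QuotientGroup.mk' K
  have hf : Function.Surjective f := QuotientGroup.mk'_surjective K
  have hker : f.ker = K := QuotientGroup.ker_mk' K
  have hRK : R ⊓ K = ⊥ := by
    have h3 : Nat.card ↥(R ⊓ K) ∣ r := hR ▸ card_dvd_of_le inf_le_left
    rcases (Nat.dvd_prime hr).1 h3 with h4 | h4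
    · exact card_eq_one.1 h4
    · exact absurd (h4 ▸ card_dvd_of_le (inf_le_right : R ⊓ K ≤ K)) hrK
  have hmapcard : ∀ A : Subgroup X, Nat.card ↥(A.map f) * Nat.card ↥(A ⊓ K) = Nat.card A := by
    intro A
    have h3 := card_mul_index (f.comp A.subtype).ker
    rw [index_ker] at h3
    have h4 : Nat.card (f.comp A.subtype).ker = Nat.card ↥(A ⊓ K) := by
      have h5 : (f.comp A.subtype).ker.map A.subtype = A ⊓ K := by
        ext x
        rw [mem_map, mem_inf]
        constructor
        · rintro ⟨a, ha, rfl⟩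
          refine ⟨a.2, ?_⟩
          rw [← hker, MonoidHom.mem_ker]
          exact ha
        · rintro ⟨hxA, hxK⟩
          refine ⟨⟨x, hxA⟩, ?_, rfl⟩
          rw [← hker, MonoidHom.mem_ker] at hxK
          exact hxK
      rw [← h5, card_map_of_injective A.subtype_injective]
    have h6 : (f.comp A.subtype).range = A.map f := by
      ext y
      constructor
      · rintro ⟨a, rfl⟩
        exact ⟨a, a.2, rfl⟩
      · rintro ⟨a, ha, rfl⟩
        exact ⟨⟨a, ha⟩, rfl⟩
    rw [h4, h6, mul_comm] at h3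
    exact h3
  have hXY : Nat.card X = Nat.card K * Nat.card (X ⧸ K) := by
    rw [← index_eq_card, card_mul_index]
  have hRbar : Nat.card ↥(R.map f) = r := by
    have := hmapcard R
    rwa [hRK, card_bot, mul_one, hR] at this
  have hY2 : ¬ r ^ 2 ∣ Nat.card (X ⧸ K) := fun h => h2 (hXY ▸ (h.trans (dvd_mul_left _ _)))
  have hno : ∀ N : Subgroup (X ⧸ K), N.Normal → ¬ r ∣ Nat.card N → N = ⊥ := by
    intro N hN hrN
    have h3 : Nat.card ↥(N.comap f) = Nat.card K * Nat.card N := MaxCls.card_comap_quot K N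
    have h4 := hKmax (N.comap f) ⟨hN.comap f, by
      rw [h3]
      intro h
      rcases hr.dvd_mul.1 h with h5 | h5
      · exact hrK h5
      · exact hrN h5⟩
    rw [h3] at h4
    have h5 : 0 < Nat.card K := Nat.card_pos
    have h6 : 0 < Nat.card N := Nat.card_pos
    have h7 : Nat.card N ≤ 1 := by
      by_contra hlt
      push Not at hlt
      nlinarith
    exact card_eq_one.1 (le_antisymm h7 h6)
  obtain ⟨s, ν, t, e1, e2, e3, e4, e5, e6⟩ := struct_top hr hY2 hno (R.map f) hRbar
  set N := normalizer (R : Set X) with hN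
  -- the normalizer in the quotient
  have hNbar : normalizer ((R.map f : Subgroup (X ⧸ K)) : Set (X ⧸ K)) = N.map f := by
    apply le_antisymm
    · intro y hy
      obtain ⟨x, rfl⟩ := hf y
      rw [← conj_eq_iff] at hy
      set R' := R.map (MulAut.conj x).toMonoidHom with hR'
      have hR'c : Nat.card R' = r := by rw [hR', card_map_of_injective (MulAut.conj x).injective, hR]
      -- `R'` and `R` are Sylow subgroups of `L = K R`
      have hR'f : R'.map f = R.map f := by
        rw [← hy, hR', map_map, map_map]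
        congr 1
      set L := K ⊔ R with hL
      have hRL : R ≤ L := le_sup_right
      have hR'L : R' ≤ L := by
        intro z hz
        have h3 : f z ∈ R.map f := by rw [← hR'f]; exact ⟨z, hz, rfl⟩
        obtain ⟨w, hw, hw'⟩ := h3
        have h4 : z * w⁻¹ ∈ K := by
          rw [← hker, MonoidHom.mem_ker, map_mul, map_inv, hw', mul_inv_cancel]
        have h5 : z = (z * w⁻¹) * w := by group
        rw [h5]
        exact mul_mem (mem_sup_left h4) (mem_sup_right hw)
      have hL2 : ¬ r ^ 2 ∣ Nat.card L := fun h => h2 (h.trans (card_subgroup_dvd_card _))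
      have hRLc : Nat.card (R'.subgroupOf L) = r := by
        rw [Nat.card_congr (subgroupOfEquivOfLe hR'L).toEquiv, hR'c]
      have hRLc2 : Nat.card (R.subgroupOf L) = r := by
        rw [Nat.card_congr (subgroupOfEquivOfLe hRL).toEquiv, hR]
      obtain ⟨l, hl⟩ := exists_conj_le hr hL2 hRLc (L := R.subgroupOf L) (by rw [hRLc2])
      have hl' : R'.map (MulAut.conj (l : X)).toMonoidHom = R := by
        apply eq_of_le_of_card_ge
        · rintro _ ⟨z, hz, rfl⟩
          exact hl ⟨⟨z, hR'L hz⟩, hz, rfl⟩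
        · rw [card_map_of_injective (MulAut.conj (l : X)).injective, hR'c, hR]
      have hlx : (l : X) * x ∈ N := by
        rw [hN, ← conj_eq_iff]
        have h7 : R.map (MulAut.conj ((l : X) * x)).toMonoidHom =
            (R.map (MulAut.conj x).toMonoidHom).map (MulAut.conj (l : X)).toMonoidHom := by
          rw [map_map]
          congr 1
          ext z
          simp
        rw [h7]
        exact hl'
      have hlf : f (l : X) ∈ N.map f := by
        have hlL : (l : X) ∈ K ⊔ R := l.2
        rw [mem_sup_of_normal_left] at hlL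
        obtain ⟨a, ha, b, hb, hab⟩ := hlL
        refine ⟨b, le_normalizer hb, ?_⟩
        rw [← hab, map_mul]
        have : f a = 1 := by rw [← MonoidHom.mem_ker, hker]; exact ha
        rw [this, one_mul]
      have h8 : f x = (f (l : X))⁻¹ * f ((l : X) * x) := by rw [map_mul]; group
      rw [h8]
      exact mul_mem (inv_mem hlf) ⟨_, hlx, rfl⟩
    · rintro _ ⟨x, hx, rfl⟩
      rw [← conj_eq_iff]
      have h3 : R.map (MulAut.conj x).toMonoidHom = R := conj_eq_iff.2 hx
      conv_rhs => rw [← h3]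
      rw [map_map, map_map]
      congr 1
  have hNc : Nat.card N = Nat.card ↥(N ⊓ K) * ν * t := by
    rw [← hmapcard N, ← hNbar, e2]
    ring
  have hmaxK : ∀ N : Subgroup X, N.Normal → ¬ r ∣ Nat.card N → N ≤ K := by
    intro A hA hrA
    have h3 := hKmax (K ⊔ A) ⟨inferInstance, not_dvd_card_sup hr K A hrK hrA⟩
    have h4 : K = K ⊔ A := eq_of_le_of_card_ge le_sup_left h3
    rw [h4]
    exact le_sup_right
  refine ⟨K, hKn, hmaxK, Nat.card ↥(N ⊓ K), s, ν, t, by rw [hXY, e1, mul_assoc], hNc, ?_,
    card_dvd_of_le inf_le_right, hrK, e3, e4, e5, ?_, e6⟩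
  · apply card_dvd_of_le
    intro x hx
    have hxN : x ∈ N := (mem_inf.1 hx).1
    have hxK : x ∈ K := (mem_inf.1 hx).2
    rw [mem_centralizer_iff]
    intro a ha
    have h3 : x * a * x⁻¹ * a⁻¹ ∈ R ⊓ K := by
      refine mem_inf.2 ⟨mul_mem ((mem_normalizer_iff.1 hxN a).1 ha) (inv_mem (show a ∈ R from ha)), ?_⟩
      have h4 : a * x⁻¹ * a⁻¹ ∈ K := hKn.conj_mem _ (inv_mem hxK) a
      have h5 : x * a * x⁻¹ * a⁻¹ = x * (a * x⁻¹ * a⁻¹) := by group
      rw [h5]
      exact mul_mem hxK h4
    rw [hRK, mem_bot] at h3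
    have h6 : x * a = a * x := by
      have := congrArg (· * a * x) h3
      simpa [mul_assoc] using this
    exact h6.symm
  · intro p hp
    have := Fact.mk hp
    by_cases hpr : p = r
    · subst hpr
      refine ⟨0, by simp, ?_⟩
      rw [Nat.factorization_eq_zero_of_not_dvd hrK]
    · -- an `R`-invariant Sylow `p`-subgroup of `K`
      let Q0 : Sylow p K := default
      set Q0' : Subgroup X := (Q0 : Subgroup K).map K.subtype with hQ0'
      have hQ0K : Q0' ≤ K := map_subtype_le _
      have hfr : normalizer (Q0' : Set X) ⊔ K = ⊤ := Sylow.normalizer_sup_eq_top Q0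
      have hrN : r ∣ Nat.card (normalizer (Q0' : Set X)) := by
        have h3 := card_sup_mul_card_inf K (normalizer (Q0' : Set X))
        rw [sup_comm, hfr, card_top] at h3
        have h4 : r ∣ Nat.card K * Nat.card (normalizer (Q0' : Set X)) := by
          rw [← h3]
          exact Dvd.dvd.mul_right (hR ▸ card_subgroup_dvd_card R) _
        exact (hr.dvd_mul.1 h4).resolve_left hrK
      obtain ⟨g, hg⟩ := exists_conj_le hr h2 hR hrN
      -- `Q = Q0' conjugated by g⁻¹` is normalized by `R`
      set Q : Subgroup X := Q0'.map (MulAut.conj g⁻¹).toMonoidHom with hQ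
      have hQK : Q ≤ K := by
        rintro _ ⟨z, hz, rfl⟩
        exact hKn.conj_mem _ (hQ0K hz) g⁻¹
      have hRQ : R ≤ normalizer (Q : Set X) := by
        intro a ha
        have h3 : g * a * g⁻¹ ∈ normalizer (Q0' : Set X) := hg ⟨a, ha, rfl⟩
        rw [← conj_eq_iff] at h3 ⊢
        rw [hQ, map_map]
        conv_rhs => rw [← h3, map_map]
        congr 1
        ext z
        simp [mul_assoc]
      have hQc : Nat.card Q = p ^ ((Nat.card K).factorization p) := by
        rw [hQ, card_map_of_injective (MulAut.conj g⁻¹).injective, hQ0', card_map_of_injective K.subtype_injective]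
        exact Q0.card_eq_multiplicity
      -- the action of `R` on `Q`
      let _ : MulAction R Q := {
        smul := fun a z => ⟨(a : X) * z * (a : X)⁻¹, (mem_normalizer_iff.1 (hRQ a.2) z).1 z.2⟩
        one_smul := fun z => Subtype.ext (by show (1 : X) * z * (1 : X)⁻¹ = z; simp)
        mul_smul := fun a b z => Subtype.ext (by
          show ((a : X) * b) * z * ((a : X) * b)⁻¹ = a * (b * z * (b : X)⁻¹) * (a : X)⁻¹
          group) }
      have hsm : ∀ (a : R) (z : Q), ((a • z : Q) : X) = (a : X) * z * (a : X)⁻¹ := fun _ _ => rfl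
      have hRp : IsPGroup r R := IsPGroup.of_card (n := 1) (by rw [hR, pow_one])
      have hmod : Nat.card Q ≡ Nat.card (MulAction.fixedPoints R Q) [MOD r] := hRp.card_modEq_card_fixedPoints Q
      -- the fixed points
      set D : Subgroup X := Q ⊓ centralizer (R : Set X) with hD
      have hDc : Nat.card (MulAction.fixedPoints R Q) = Nat.card D := by
        refine Nat.card_congr ?_
        refine ⟨fun z => ⟨((z : Q) : X), mem_inf.2 ⟨(z : Q).2, ?_⟩⟩, fun z => ⟨⟨(z : X), (mem_inf.1 z.2).1⟩, ?_⟩, fun z => rfl, fun z => rfl⟩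
        · show ((z : Q) : X) ∈ centralizer (R : Set X)
          rw [mem_centralizer_iff]
          intro a ha
          have h3 := congrArg Subtype.val (z.2 ⟨a, ha⟩)
          rw [hsm] at h3
          have h4 : a * ((z : Q) : X) * a⁻¹ = ((z : Q) : X) := h3
          calc a * ((z : Q) : X) = a * ((z : Q) : X) * a⁻¹ * a := by group
            _ = ((z : Q) : X) * a := by rw [h4]
        · intro a
          apply Subtype.ext
          rw [hsm]
          have h3 := (mem_centralizer_iff.1 (mem_inf.1 z.2).2) (a : X) a.2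
          show (a : X) * (z : X) * (a : X)⁻¹ = z
          rw [h3]
          group
      have hDp : IsPGroup p D := by
        have h3 : IsPGroup p Q := IsPGroup.of_card hQc
        exact h3.to_le inf_le_left
      obtain ⟨j, hj⟩ := IsPGroup.iff_card.1 hDp
      refine ⟨j, ?_, ?_⟩
      · rw [← hj]
        apply card_dvd_of_le
        intro z hz
        have hzQ : z ∈ Q := (mem_inf.1 hz).1
        have hzC : z ∈ centralizer (R : Set X) := (mem_inf.1 hz).2
        refine mem_inf.2 ⟨?_, hQK hzQ⟩
        rw [hN, mem_normalizer_iff]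
        intro a
        have h3 : ∀ b ∈ R, z * b * z⁻¹ = b := by
          intro b hb
          rw [← (mem_centralizer_iff.1 hzC) b hb]
          group
        constructor
        · intro ha
          rw [h3 a ha]
          exact ha
        · intro ha
          have h4 := h3 _ ha
          have h5 : z * a * z⁻¹ = a := by
            have h6 : z * (z * a * z⁻¹) * z⁻¹ = z * a * z⁻¹ := h4
            have h7 : z⁻¹ * (z * (z * a * z⁻¹) * z⁻¹) * z = z⁻¹ * (z * a * z⁻¹) * z := by rw [h6]
            have h8 : z⁻¹ * (z * (z * a * z⁻¹) * z⁻¹) * z = z * a * z⁻¹ := by group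
            have h9 : z⁻¹ * (z * a * z⁻¹) * z = a := by group
            rw [h8, h9] at h7
            exact h7
          rw [← h5]
          exact ha
      · rw [← hQc, ← hj, ← hDc]
        exact hmod

/-- the numbers of `struct` for a subgroup -/
theorem struct_subK {G : Type u} [Group G] [Finite G] {l : List (ℕ × ℕ)} {n : ℕ} (hv : valid l n = true)
    (hn : Nat.card G = n) {ords : List ℕ} (ho : Ords.{u} n ords) {ld : LD} (hl : Loc G ld) {H : Subgroup G}
    (hr : ld.r ∣ Nat.card H) : ∃ K : Subgroup H, K.Normal ∧ (∀ N : Subgroup H, N.Normal → ¬ ld.r ∣ Nat.card N → N ≤ K) ∧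
      ∃ s t : ℕ, Nat.card H = Nat.card K * s * t ∧ t ∣ ld.N / ld.r ∧ s ∈ ld.r :: ords ∧
      ld.r ∣ s ∧ t ∈ divsT ld.fN ∧ ¬ ld.r ∣ Nat.card K ∧
      (∀ p : ℕ, p.Prime → okexp ld.r ld.C p ((Nat.card K).factorization p) = true) ∧
      nuc (divsT ld.fN) ld.r ld.N s t = true := by
  obtain ⟨hp, hfN, h2, hloc⟩ := hl
  have := Fact.mk hp
  have hH2 : ¬ ld.r ^ 2 ∣ Nat.card H := fun h => h2 (h.trans (card_subgroup_dvd_card H))
  obtain ⟨x, hx⟩ := exists_prime_orderOf_dvd_card' ld.r hr
  set R : Subgroup H := zpowers x with hR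
  have hRc : Nat.card R = ld.r := by rw [hR, Nat.card_zpowers, hx]
  set R' : Subgroup G := R.map H.subtype with hR'
  have hR'c : Nat.card R' = ld.r := by rw [hR', card_map_of_injective H.subtype_injective, hRc]
  obtain ⟨hC, hN⟩ := hloc R' hR'c
  have hNH : Nat.card (normalizer (R : Set H)) ∣ ld.N := by
    refine dvd_trans ?_ hN
    have h3 : (normalizer (R : Set H)).map H.subtype ≤ normalizer (R' : Set G) := by
      rintro _ ⟨a, ha, rfl⟩
      rw [mem_normalizer_iff]
      intro z
      constructor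
      · rintro ⟨w, hw, rfl⟩
        exact ⟨_, (mem_normalizer_iff.1 ha w).1 hw, rfl⟩
      · rintro ⟨w, hw, hw'⟩
        have h4 : a⁻¹ * w * a ∈ R := by
          have h5 := (mem_normalizer_iff.1 ha (a⁻¹ * w * a)).2 (by
            have h6 : a * (a⁻¹ * w * a) * a⁻¹ = w := by group
            rw [h6]
            exact hw)
          exact h5
        refine ⟨_, h4, ?_⟩
        have h7 : (w : G) = (a : G) * z * (a : G)⁻¹ := hw'
        show ((a⁻¹ * w * a : H) : G) = z
        push_cast
        rw [h7]
        group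
    rw [← card_map_of_injective H.subtype_injective]
    exact card_dvd_of_le h3
  have hCH : Nat.card (centralizer (R : Set H)) ∣ ld.C := by
    refine dvd_trans ?_ hC
    have h3 : (centralizer (R : Set H)).map H.subtype ≤ centralizer (R' : Set G) := by
      rintro _ ⟨a, ha, rfl⟩
      rw [mem_centralizer_iff]
      rintro _ ⟨w, hw, rfl⟩
      exact congrArg Subtype.val ((mem_centralizer_iff.1 ha) w hw)
    rw [← card_map_of_injective H.subtype_injective]
    exact card_dvd_of_le h3
  obtain ⟨K, hKn, hKm, c, s, ν, t, e1, e2, e3, e4, e5, e6, e7, e8, e9, e10⟩ := structK hp hH2 R hRc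
  obtain ⟨k, hkd⟩ : ∃ k, Nat.card K = k := ⟨_, rfl⟩
  rw [hkd] at e1 e4 e5 e9
  have hNpos : 0 < ld.N := prodl_pos hfN
  have hHpos : 0 < Nat.card H := Nat.card_pos
  have hkpos : k ≠ 0 := by
    rintro rfl
    rw [zero_mul, zero_mul] at e1
    omega
  have hHn : Nat.card H ∣ n := hn ▸ card_subgroup_dvd_card H
  have htpos : 0 < t := Nat.pos_of_ne_zero (by rintro rfl; rw [mul_zero] at e1; omega)
  have hspos : 0 < s := Nat.pos_of_ne_zero (by rintro rfl; rw [mul_zero, zero_mul] at e1; omega)
  have hcpos : 0 < c := Nat.pos_of_dvd_of_pos e4 (Nat.pos_of_ne_zero hkpos)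
  have hνpos : 0 < ν := Nat.pos_of_dvd_of_pos e7 hspos
  obtain ⟨ν', hν'⟩ := e6
  have hrN : ld.N = ld.r * (ld.N / ld.r) := by
    have h3 : ld.r ∣ ld.N := by
      refine dvd_trans ?_ hNH
      rw [e2, hν']
      exact ⟨c * ν' * t, by ring⟩
    exact (Nat.mul_div_cancel' h3).symm
  have htN : t ∣ ld.N / ld.r := by
    have h3 : ld.r * t ∣ ld.N := by
      refine dvd_trans ?_ hNH
      rw [e2, hν']
      exact ⟨c * ν', by ring⟩
    rw [hrN] at h3
    exact Nat.dvd_of_mul_dvd_mul_left hp.pos h3
  have htN' : t ∣ ld.N := htN.trans (Nat.div_dvd_of_dvd (by rw [hrN]; exact dvd_mul_right _ _))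
  refine ⟨K, hKn, hKm, s, t, by rw [hkd]; exact e1, htN, ?_, ?_, mem_divsT hfN htN', by rw [hkd]; exact e5, ?_, ?_⟩
  · rcases e10 with h | ⟨S, i1, i2, hS, hna, hSc⟩
    · rw [h]
      exact List.mem_cons_self
    · rw [← hSc]
      refine List.mem_cons_of_mem _ (ho S hS hna ?_)
      rw [hSc]
      exact dvd_trans (by rw [e1]; exact ⟨k * t, by ring⟩) hHn
  · exact (Dvd.intro _ hν'.symm).trans e7
  · intro p hpp
    rw [hkd]
    obtain ⟨j, hj, hjm⟩ := e9 p hpp
    unfold okexp
    rw [List.any_eq_true]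
    have hjle : j ≤ k.factorization p := (hpp.pow_dvd_iff_le_factorization hkpos).1 (hj.trans e4)
    refine ⟨j, List.mem_range.2 (by omega), ?_⟩
    rw [Bool.and_eq_true, beq_iff_eq, beq_iff_eq]
    refine ⟨Nat.mod_eq_zero_of_dvd ((hj.trans e3).trans hCH), ?_⟩
    by_cases hpr : p = ld.r
    · have h3 : k.factorization p = 0 := by
        rw [hpr]
        exact Nat.factorization_eq_zero_of_not_dvd e5
      have h4 : j = 0 := by omega
      rw [h3, h4, Nat.sub_zero, pow_zero]
    · have h3 : p ^ (k.factorization p) = p ^ j * p ^ (k.factorization p - j) := by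
        rw [← pow_add]
        congr 1
        omega
      have h4 : p ^ j * p ^ (k.factorization p - j) ≡ p ^ j * 1 [MOD ld.r] := by
        rw [← h3, mul_one]
        exact hjm
      have h5 : Nat.gcd ld.r (p ^ j) = 1 := by
        apply Nat.Coprime.pow_right
        exact (Nat.coprime_primes hp hpp).2 (Ne.symm hpr)
      exact Nat.ModEq.cancel_left_of_coprime h5 h4
  · unfold nuc
    rw [Bool.or_eq_true, List.any_eq_true]
    right
    refine ⟨ν, mem_divsT hfN (dvd_trans ?_ hNH), ?_⟩
    · rw [e2]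
      exact ⟨c * t, by ring⟩
    · rw [Bool.and_eq_true, Bool.and_eq_true, Bool.and_eq_true, beq_iff_eq, beq_iff_eq, beq_iff_eq, beq_iff_eq]
      refine ⟨⟨⟨Nat.mod_eq_zero_of_dvd ⟨ν', hν'⟩, Nat.mod_eq_zero_of_dvd ?_⟩, Nat.mod_eq_zero_of_dvd e7⟩, e8⟩
      obtain ⟨z, hz⟩ := hNH
      rw [hz, e2]
      refine ⟨c * z, ?_⟩
      apply Nat.div_eq_of_eq_mul_left htpos
      ring

end Cfsg.Agent.H915.S8
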